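import Cfsg.Agent.Lib.CyclicCorner.Degrees
import Mathlib.LinearAlgebra.Trace

/-!
# The trace functionals of the primitive idempotents

For a primitive idempotent `i` of the group ring over the local ring, the right translates of the
residue functions `h ↦ (i h z i mod J)` span a module over the residue field whose trace function
is `1` at `i` and `0` at every primitive idempotent with another column.
-/

set_option autoImplicit false
set_option linter.unusedSectionVars false
set_option linter.style.haveILetI false

namespace Cfsg.Agent.Lib.BlockDegreeSum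

open Cfsg Cfsg.Agent.Lib.Blocks Cfsg.Agent.Lib.BrauerStar Cfsg.Agent.Lib.Characters

universe u

variable {G : Type u} [Group G] [Fintype G] {M : Ideal AlgInt} [hMp : M.IsPrime] {p : ℕ}

/-- Primitive idempotents of the group ring. -/
abbrev IsPI (j : RG M G) : Prop := IsPrimIn (⊤ : Subalgebra (locSubring M) (RG M G)) j

/-- Units of a corner. -/
abbrev IsCU (i c : RG M G) : Prop := IsUnitIn (⊤ : Subalgebra (locSubring M) (RG M G)) i c

/-- The values of the irreducible characters at an element. -/
noncomputable def col (j : RG M G) : IrrCharacter G → ℂ := fun χ => ev (χ : G → ℂ) j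

theorem eq_sum_smul_el (a : RG M G) : a = ∑ g : G, (a.coeff g) • el g := by
  classical
  refine coef_injective (funext fun h => ?_)
  rw [coef_sum, Finset.sum_apply, Finset.sum_eq_single h]
  · rw [coef_smul, el, MonoidAlgebra.of_apply, Pi.smul_apply, coef_single, if_pos rfl]
    simp [coef]
  · intro g _ hne
    rw [coef_smul, el, MonoidAlgebra.of_apply, Pi.smul_apply, coef_single, if_neg hne, smul_zero]
  · simp

/-- The value of a character at an idempotent is a natural number. -/
theorem exists_ev_eq_nat {χ : G → ℂ} (hχ : IsCharacter G χ) {j : RG M G} (hj : j * j = j) :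
    ∃ n : ℕ, ev χ j = n := by
  classical
  obtain ⟨d, ρ, rfl⟩ := hχ
  set E : Module.End ℂ (Fin d → ℂ) := ∑ g : G, coef j g • ρ g with hE
  have hEE : E * E = E := by
    conv_rhs => rw [hE, ← hj, coef_mul]
    simp only [conv, Finset.sum_smul]
    rw [hE, Finset.sum_mul, Finset.sum_comm (f := fun t h => (coef j h * coef j (h⁻¹ * t)) • ρ t)]
    refine Finset.sum_congr rfl fun g _ => ?_
    rw [Finset.mul_sum]
    refine Fintype.sum_equiv (Equiv.mulLeft g) _ _ fun h => ?_
    rw [Equiv.coe_mulLeft, inv_mul_cancel_left, smul_mul_smul_comm, ← map_mul]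
  refine ⟨Module.finrank ℂ (LinearMap.range E), ?_⟩
  rw [← LinearMap.IsProj.trace (LinearMap.IsIdempotentElem.isProj_range E hEE)]
  simp [hE, ev, Representation.character, map_sum]

section Corner

variable {i j w x y c d : RG M G}

theorem col_mul_comm (x y : RG M G) : col (x * y) = col (y * x) :=
  funext fun χ => ev_mul_comm (irr_isClassFunction χ) x y

/-- A primitive idempotent through which another one factors has the same column. -/
theorem col_eq_of_factor (hi : i * i = i) (hi0 : i ≠ 0) (hw : IsPI w) (hxy : x * y = i)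
    (hxw : x * w = x) (hwy : w * y = y) (hix : i * x = x) : col i = col w := by
  have hid : y * x * (y * x) = y * x := by
    rw [show y * x * (y * x) = y * (x * y * x) by simp only [mul_assoc], hxy, hix]
  rcases hw.eq_or (y * x) Algebra.mem_top hid (by rw [← mul_assoc, hwy]) (by rw [mul_assoc, hxw])
    with h | h
  · exfalso
    apply hi0
    rw [← hi, ← hxy, show x * y * (x * y) = x * (y * x) * y by simp only [mul_assoc], h]
    simp
  · rw [← hxy, col_mul_comm, h]

/-- Every primitive idempotent below a decomposed one has the column of one of the parts. -/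
theorem exists_col_eq {e : RG M G} {T : Finset (RG M G)}
    (hT : IsDecomp (⊤ : Subalgebra (locSubring M) (RG M G)) e T) (hj : IsPI j) (hje : j * e = j) :
    ∃ w ∈ T, col j = col w := by
  have hsum : IsUnitIn (⊤ : Subalgebra (locSubring M) (RG M G)) j (∑ w ∈ T, j * w * j) := by
    rw [← Finset.sum_mul, ← Finset.mul_sum, hT.sum, hje, hj.idem]
    exact ⟨j, Algebra.mem_top, hj.idem, hj.idem, hj.idem, hj.idem⟩
  obtain ⟨w, hwT, u, -, hju, huj, hcu, -⟩ := hj.exists_isUnitIn_of_sum monicSplits_locSubring T _
    (fun w _ => ⟨Algebra.mem_top, by rw [← mul_assoc, ← mul_assoc, hj.idem],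
      by rw [mul_assoc, hj.idem]⟩) hsum
  have hw := hT.prim w hwT
  exact ⟨w, hwT, col_eq_of_factor (x := j * w) (y := w * (j * u)) hj.idem hj.ne_zero hw
    (by rw [show j * w * (w * (j * u)) = j * (w * w) * j * u by simp only [mul_assoc], hw.idem, hcu])
    (by rw [mul_assoc, hw.idem]) (by rw [← mul_assoc, hw.idem]) (by rw [← mul_assoc, hj.idem])⟩

theorem not_isCU_add (hi : IsPI i) (hc : i * c = c) (hc' : c * i = c) (hd : i * d = d)
    (hd' : d * i = d) (h1 : ¬ IsCU i c) (h2 : ¬ IsCU i d) : ¬ IsCU i (c + d) := fun h =>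
  (hi.isUnitIn_or monicSplits_locSubring Algebra.mem_top hc hc' Algebra.mem_top hd hd' h).elim h1 h2

theorem not_isCU_sub (hi : IsPI i) (hc : i * c = c) (hc' : c * i = c) (hd : i * d = d)
    (hd' : d * i = d) (h1 : ¬ IsCU i c) (h2 : ¬ IsCU i d) : ¬ IsCU i (c - d) := by
  intro h
  have hd2 : i * ((-1 : locSubring M) • d) = (-1 : locSubring M) • d := by rw [mul_smul_comm, hd]
  have hd2' : ((-1 : locSubring M) • d) * i = (-1 : locSubring M) • d := by rw [smul_mul_assoc, hd']
  refine not_isCU_add hi hc hc' hd2 hd2' h1 ?_ (by rwa [neg_one_smul, ← sub_eq_add_neg])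
  rintro ⟨a, -, ha, ha', hca, hac⟩
  exact h2 ⟨(-1 : locSubring M) • a, Algebra.mem_top, by rw [mul_smul_comm, ha],
    by rw [smul_mul_assoc, ha'], by rw [mul_smul_comm, ← smul_mul_assoc, hca],
    by rw [smul_mul_assoc, ← mul_smul_comm, hac]⟩

theorem IsCU.mul (h1 : IsCU i c) (h2 : IsCU i d) : IsCU i (c * d) := by
  obtain ⟨a, -, ha, ha', hca, hac⟩ := h1
  obtain ⟨b, -, hb, hb', hdb, hbd⟩ := h2
  refine ⟨b * a, Algebra.mem_top, by rw [← mul_assoc, hb], by rw [mul_assoc, ha'], ?_, ?_⟩
  · rw [show c * d * (b * a) = c * ((d * b) * a) by simp only [mul_assoc], hdb, ha, hca]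
  · rw [show b * a * (c * d) = b * (a * c) * d by simp only [mul_assoc], hac, hb', hbd]

theorem isCU_of_mul_left (hi : IsPI i) (hd : i * d = d) (hd' : d * i = d) (hc : i * c = c)
    (hc' : c * i = c) (h : IsCU i (c * d)) : IsCU i c ∧ IsCU i d := by
  obtain ⟨a, -, ha, ha', hca, hac⟩ := h
  have hdU : IsCU i d := hi.isUnitIn_of_left Algebra.mem_top hd hd' (a := a * c) Algebra.mem_top
    (by rw [← mul_assoc, ha]) (by rw [mul_assoc, hc']) (by rw [mul_assoc, hac])
  obtain ⟨b, -, hb, hb', hdb, hbd⟩ := hdU
  refine ⟨?_, b, Algebra.mem_top, hb, hb', hdb, hbd⟩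
  have hvl : i * (d * a) = d * a := by rw [← mul_assoc, hd]
  have hvr : d * a * i = d * a := by rw [mul_assoc, ha']
  have hvc : c * (d * a) = i := by rw [← mul_assoc, hca]
  obtain ⟨v, -, hiv, -, hv1, -⟩ := hi.isUnitIn_of_left Algebra.mem_top hvl hvr (a := c)
    Algebra.mem_top hc hc' hvc
  refine ⟨d * a, Algebra.mem_top, hvl, hvr, hvc, ?_⟩
  have : c = v := by
    rw [← hc', ← hv1, ← mul_assoc, hvc, hiv]
  rw [this, hv1]

theorem isCU_smul_iff (hM : IsPModular p M) (hi : IsPI i) (r : locSubring M) :
    IsCU i (r • i) ↔ IsUnit r := by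
  constructor
  · rintro ⟨a, -, ha, -, hca, -⟩
    by_contra hr
    apply hi.ne_zero
    refine eq_zero_of_idem_small hM hi.idem (brZero_bot_iff.2 fun g => ?_)
    rw [← hca, smul_mul_assoc, ha, coef_smul, Pi.smul_apply, smul_eq_mul]
    refine memLocalIdeal_mul_right ?_ (memLocalRing_coef a g)
    by_contra h
    exact hr (isUnit_locSubring_iff.2 h)
  · rintro ⟨r, rfl⟩
    exact ⟨(↑r⁻¹ : locSubring M) • i, Algebra.mem_top, by rw [mul_smul_comm, hi.idem],
      by rw [smul_mul_assoc, hi.idem],
      by rw [smul_mul_smul_comm, hi.idem, Units.mul_inv, one_smul],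
      by rw [smul_mul_smul_comm, hi.idem, Units.inv_mul, one_smul]⟩

theorem corner_sub_smul (hi : IsPI i) (hc : i * c = c) (hc' : c * i = c) (r : locSubring M) :
    i * (c - r • i) = c - r • i ∧ (c - r • i) * i = c - r • i :=
  ⟨by rw [mul_sub, hc, mul_smul_comm, hi.idem], by rw [sub_mul, hc', smul_mul_assoc, hi.idem]⟩

theorem exists_residue (hi : IsPI i) (hc : i * c = c) (hc' : c * i = c) :
    ∃ r : locSubring M, ¬ IsCU i (c - r • i) := by
  by_contra hall
  push Not at hall
  obtain ⟨f, hf, hfc⟩ := Algebra.IsIntegral.isIntegral (R := locSubring M) c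
  obtain ⟨m, hm⟩ := monicSplits_locSubring f hf
  have key : ∀ m : Multiset (locSubring M), IsCU i
      (Polynomial.aeval c (m.map fun r => Polynomial.X - Polynomial.C r).prod * i) := by
    intro m
    induction m using Multiset.induction_on with
    | empty =>
      rw [Multiset.map_zero, Multiset.prod_zero, map_one, one_mul]
      exact ⟨i, Algebra.mem_top, hi.idem, hi.idem, hi.idem, hi.idem⟩
    | cons r s ih =>
      rw [Multiset.map_cons, Multiset.prod_cons, map_mul, map_sub, Polynomial.aeval_X,
        Polynomial.aeval_C, Algebra.algebraMap_eq_smul_one]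
      set Q := Polynomial.aeval c (s.map fun r => Polynomial.X - Polynomial.C r).prod
      have hQi : i * (Q * i) = Q * i := by
        rw [← mul_assoc, (commute_aeval (show Commute i c from hc.trans hc'.symm) _).eq, mul_assoc,
          hi.idem]
      have e : (c - r • (1 : RG M G)) * Q * i = (c - r • i) * (Q * i) := by
        rw [mul_assoc, sub_mul, sub_mul, smul_mul_assoc, one_mul, smul_mul_assoc, hQi]
      rw [e]
      exact (hall r).mul ih
  have h := key m
  rw [← hm, show Polynomial.aeval c f = 0 from hfc, zero_mul] at h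
  exact hi.not_isUnitIn_zero h

variable (i) in
/-- The residue of an element of the corner. -/
noncomputable def eps (c : RG M G) : ResField M :=
  Classical.epsilon fun l => ∃ r : locSubring M, red M r = l ∧ ¬ IsCU i (c - r • i)

theorem eps_eq (hM : IsPModular p M) (hi : IsPI i) (hc : i * c = c) (hc' : c * i = c)
    {r : locSubring M} (h : ¬ IsCU i (c - r • i)) : eps i c = red M r := by
  have hex : ∃ l, ∃ r : locSubring M, red M r = l ∧ ¬ IsCU i (c - r • i) := ⟨_, r, rfl, h⟩
  obtain ⟨r', hr', h'⟩ := Classical.epsilon_spec hex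
  unfold eps
  rw [← hr', ← sub_eq_zero, ← map_sub]
  have h1 := not_isCU_sub hi (corner_sub_smul hi hc hc' r).1 (corner_sub_smul hi hc hc' r).2
    (corner_sub_smul hi hc hc' r').1 (corner_sub_smul hi hc hc' r').2 h h'
  rw [show c - r • i - (c - r' • i) = (r' - r) • i by rw [sub_smul]; abel, isCU_smul_iff hM hi] at h1
  rw [red_eq_zero_iff]
  by_contra h2
  exact h1 (isUnit_locSubring_iff.2 h2)

theorem eps_add (hM : IsPModular p M) (hi : IsPI i) (hc : i * c = c) (hc' : c * i = c)
    (hd : i * d = d) (hd' : d * i = d) : eps i (c + d) = eps i c + eps i d := by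
  obtain ⟨r, hr⟩ := exists_residue hi hc hc'
  obtain ⟨s, hs⟩ := exists_residue hi hd hd'
  rw [eps_eq hM hi hc hc' hr, eps_eq hM hi hd hd' hs, ← map_add]
  refine eps_eq hM hi (by rw [mul_add, hc, hd]) (by rw [add_mul, hc', hd']) ?_
  rw [show c + d - (r + s) • i = (c - r • i) + (d - s • i) by rw [add_smul]; abel]
  exact not_isCU_add hi (corner_sub_smul hi hc hc' r).1 (corner_sub_smul hi hc hc' r).2
    (corner_sub_smul hi hd hd' s).1 (corner_sub_smul hi hd hd' s).2 hr hs

theorem eps_mul (hM : IsPModular p M) (hi : IsPI i) (hc : i * c = c) (hc' : c * i = c)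
    (hd : i * d = d) (hd' : d * i = d) : eps i (c * d) = eps i c * eps i d := by
  obtain ⟨r, hr⟩ := exists_residue hi hc hc'
  obtain ⟨s, hs⟩ := exists_residue hi hd hd'
  obtain ⟨h1, h1'⟩ := corner_sub_smul hi hc hc' r
  obtain ⟨h2, h2'⟩ := corner_sub_smul hi hd hd' s
  rw [eps_eq hM hi hc hc' hr, eps_eq hM hi hd hd' hs, ← map_mul]
  refine eps_eq hM hi (by rw [← mul_assoc, hc]) (by rw [mul_assoc, hd']) ?_
  rw [show c * d - (r * s) • i = (c - r • i) * d + (r • i) * (d - s • i) by
    rw [sub_mul, mul_sub, smul_mul_assoc, hd, smul_mul_smul_comm, hi.idem]; abel]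
  refine not_isCU_add hi (by rw [← mul_assoc, h1]) (by rw [mul_assoc, hd'])
    (by rw [← mul_assoc, mul_smul_comm, hi.idem]) (by rw [mul_assoc, h2']) ?_ ?_
  · exact fun h => hr (isCU_of_mul_left hi hd hd' h1 h1' h).1
  · exact fun h => hs (isCU_of_mul_left hi h2 h2' (by rw [mul_smul_comm, hi.idem])
      (by rw [smul_mul_assoc, hi.idem]) h).2

theorem eps_smul (hM : IsPModular p M) (hi : IsPI i) (hc : i * c = c) (hc' : c * i = c)
    (s : locSubring M) : eps i (s • c) = red M s * eps i c := by
  have h1 : eps i (s • i) = red M s := eps_eq hM hi (by rw [mul_smul_comm, hi.idem])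
    (by rw [smul_mul_assoc, hi.idem]) (by rw [sub_self]; exact hi.not_isUnitIn_zero)
  rw [← h1, ← eps_mul hM hi (by rw [mul_smul_comm, hi.idem]) (by rw [smul_mul_assoc, hi.idem]) hc hc',
    smul_mul_assoc, hc]

theorem eps_zero (hM : IsPModular p M) (hi : IsPI i) : eps i 0 = 0 := by
  rw [eps_eq hM hi (mul_zero i) (zero_mul i) (r := 0)
    (by rw [zero_smul, sub_zero]; exact hi.not_isUnitIn_zero), map_zero]

theorem eps_self (hM : IsPModular p M) (hi : IsPI i) : eps i i = 1 := by
  rw [eps_eq hM hi hi.idem hi.idem (r := 1)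
    (by rw [one_smul, sub_self]; exact hi.not_isUnitIn_zero), map_one]

theorem eps_sand_sum (hM : IsPModular p M) (hi : IsPI i) {ι : Type*} (t : Finset ι)
    (f : ι → RG M G) :
    eps i (i * (∑ k ∈ t, f k) * i) = ∑ k ∈ t, eps i (i * f k * i) := by
  classical
  induction t using Finset.induction_on with
  | empty => simp [eps_zero hM hi]
  | insert a t ha ih =>
    rw [Finset.sum_insert ha, Finset.sum_insert ha, mul_add, add_mul, eps_add hM hi
      (by rw [← mul_assoc, ← mul_assoc, hi.idem]) (by rw [mul_assoc, hi.idem])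
      (by rw [← mul_assoc, ← mul_assoc, hi.idem]) (by rw [mul_assoc, hi.idem]), ih]

end Corner

theorem trace_mul_eq_of_pow {K V : Type*} [Field K] [AddCommGroup V] [Module K V] {p k : ℕ}
    [Fact p.Prime] [CharP K p] (X Y : Module.End K V) (hc : Commute X Y) (hX : X ^ p ^ k = 1) :
    LinearMap.trace K V (X * Y) = LinearMap.trace K V Y := by
  rcases subsingleton_or_nontrivial V with hV | hV
  · exact congrArg _ (Subsingleton.elim _ _)
  haveI : CharP (Module.End K V) p :=
    charP_of_injective_algebraMap (algebraMap K (Module.End K V)).injective p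
  have hnil : IsNilpotent (X - 1) := ⟨p ^ k, by
    rw [sub_pow_char_pow_of_commute p k (Commute.one_right X), hX, one_pow, sub_self]⟩
  have hc' : Commute (X - 1) Y := hc.sub_left (Commute.one_left Y)
  have h1 := (LinearMap.isNilpotent_trace_of_isNilpotent (hc'.isNilpotent_mul_right hnil)).eq_zero
  rwa [sub_mul, one_mul, map_sub, sub_eq_zero] at h1

theorem trace_eq_one_of_isProj {K V : Type*} [Field K] [AddCommGroup V] [Module K V]
    [FiniteDimensional K V] {v : V} (hv : v ≠ 0) (f : V →ₗ[K] V)
    (hf : LinearMap.IsProj (Submodule.span K {v}) f) : LinearMap.trace K V f = 1 := by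
  rw [LinearMap.IsProj.trace hf, finrank_span_singleton hv, Nat.cast_one]

section Module

variable (i : RG M G)

/-- The residue function of an element. -/
noncomputable def resF (z : RG M G) : G → ResField M := fun h => eps i (i * (el h * z) * i)

/-- The module spanned by the residue functions. -/
noncomputable def resW : Submodule (ResField M) (G → ResField M) :=
  Submodule.span (ResField M) (Set.range (resF i))

theorem resF_mem (z : RG M G) : resF i z ∈ resW i := Submodule.subset_span ⟨z, rfl⟩

theorem funLeft_resF (g : G) (z : RG M G) :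
    LinearMap.funLeft (ResField M) (ResField M) (fun h : G => h * g) (resF i z) =
      resF i (el g * z) := by
  funext h
  simp only [LinearMap.funLeft_apply, resF, el_mul, mul_assoc]

/-- Right translation of functions. -/
noncomputable def shift (g : G) : (G → ResField M) →ₗ[ResField M] (G → ResField M) :=
  LinearMap.funLeft (ResField M) (ResField M) fun h : G => h * g

theorem shift_mem (g : G) : ∀ v ∈ resW i, shift (M := M) g v ∈ resW i := by
  intro v hv
  induction hv using Submodule.span_induction with
  | mem x hx =>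
    obtain ⟨z, rfl⟩ := hx
    rw [shift, funLeft_resF]
    exact resF_mem i _
  | zero => rw [map_zero]; exact zero_mem _
  | add x y _ _ h1 h2 => rw [map_add]; exact add_mem h1 h2
  | smul a x _ h1 => rw [map_smul]; exact Submodule.smul_mem _ _ h1

/-- Right translation on the module. -/
noncomputable def resOp (g : G) : Module.End (ResField M) (resW i) :=
  (shift (M := M) g).restrict (shift_mem i g)

theorem resOp_apply (g : G) (v : resW i) (t : G) :
    (resOp i g v : G → ResField M) t = (v : G → ResField M) (t * g) := rfl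

theorem resOp_mul (g h : G) : resOp i (g * h) = resOp i g * resOp i h := by
  refine LinearMap.ext fun v => Subtype.ext (funext fun t => ?_)
  rw [Module.End.mul_apply, resOp_apply, resOp_apply, resOp_apply, mul_assoc]

theorem resOp_one : resOp i (1 : G) = 1 := by
  refine LinearMap.ext fun v => Subtype.ext (funext fun t => ?_)
  rw [resOp_apply, mul_one]
  rfl

/-- The action as a monoid homomorphism. -/
noncomputable def resRep : G →* Module.End (ResField M) (resW i) where
  toFun := resOp i
  map_one' := resOp_one i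
  map_mul' := resOp_mul i

/-- The trace function. -/
noncomputable def tau (g : G) : ResField M := LinearMap.trace _ _ (resRep i g)

theorem tau_conj (g h : G) : tau i (h * g * h⁻¹) = tau i g := by
  rw [tau, map_mul, LinearMap.trace_mul_comm, ← map_mul,
    show h⁻¹ * (h * g) = g by group]
  rfl

variable {i}

/-- The linear extension of the action. -/
noncomputable def resAct (a : RG M G) : Module.End (ResField M) (resW i) :=
  ∑ g : G, red M (a.coeff g) • resRep i g

theorem trace_resAct (a : RG M G) :
    LinearMap.trace _ _ (resAct (i := i) a) = ∑ g : G, red M (a.coeff g) * tau i g := by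
  simp [resAct, tau, map_sum]

theorem resAct_resF (hM : IsPModular p M) (hi : IsPI i) (a z : RG M G) :
    (resAct (i := i) a ⟨resF i z, resF_mem i z⟩ : G → ResField M) = resF i (a * z) := by
  funext h
  simp only [resAct, LinearMap.sum_apply, LinearMap.smul_apply]
  rw [AddSubmonoidClass.coe_finsetSum, Finset.sum_apply]
  conv_rhs => rw [eq_sum_smul_el a, resF, Finset.sum_mul, Finset.mul_sum, eps_sand_sum hM hi]
  refine Finset.sum_congr rfl fun g _ => ?_
  rw [smul_mul_assoc, mul_smul_comm, mul_smul_comm, smul_mul_assoc, eps_smul hM hi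
    (by rw [← mul_assoc, ← mul_assoc, hi.idem]) (by rw [mul_assoc, hi.idem])]
  show red M (a.coeff g) * (resF i z) (h * g) = _
  simp only [resF, el_mul, mul_assoc]

theorem tau_idem_self (hM : IsPModular p M) (hi : IsPI i) :
    ∑ g : G, red M (i.coeff g) * tau i g = 1 := by
  classical
  have hz : ∀ z, resF i (i * z) = eps i (i * z * i) • resF i i := by
    intro z
    funext h
    rw [Pi.smul_apply, smul_eq_mul, mul_comm, resF, resF, ← eps_mul hM hi
      (by rw [← mul_assoc, ← mul_assoc, hi.idem]) (by rw [mul_assoc, hi.idem])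
      (by rw [← mul_assoc, ← mul_assoc, hi.idem]) (by rw [mul_assoc, hi.idem])]
    congr 1
    rw [show i * (el h * i) * i * (i * z * i) = i * el h * ((i * (i * i)) * (z * i)) by
      simp only [mul_assoc], hi.idem, hi.idem]
    simp only [mul_assoc]
  let v₀ : resW i := ⟨resF i i, resF_mem i i⟩
  have hv₀ : v₀ ≠ 0 := fun h => by
    have h1 := congrFun (congrArg Subtype.val h) 1
    simp only [v₀, resF, el_one, one_mul, hi.idem, eps_self hM hi] at h1
    exact one_ne_zero h1
  have hproj : LinearMap.IsProj (Submodule.span (ResField M) {v₀}) (resAct (i := i) i) := by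
    refine ⟨fun v => ?_, fun v hv => ?_⟩
    · obtain ⟨v, hv⟩ := v
      induction hv using Submodule.span_induction with
      | mem x hx =>
        obtain ⟨z, rfl⟩ := hx
        refine Submodule.mem_span_singleton.2 ⟨eps i (i * z * i), Subtype.ext ?_⟩
        rw [resAct_resF hM hi, hz]
        rfl
      | zero =>
        rw [show (⟨0, _⟩ : resW i) = 0 from rfl, map_zero]
        exact zero_mem _
      | add x y hx hy h1 h2 =>
        rw [show (⟨x + y, _⟩ : resW i) = ⟨x, hx⟩ + ⟨y, hy⟩ from rfl, map_add]
        exact add_mem h1 h2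
      | smul a x hx h1 =>
        rw [show (⟨a • x, _⟩ : resW i) = a • ⟨x, hx⟩ from rfl, map_smul]
        exact Submodule.smul_mem _ _ h1
    · obtain ⟨a, rfl⟩ := Submodule.mem_span_singleton.1 hv
      rw [map_smul]
      congr 1
      refine Subtype.ext ?_
      rw [resAct_resF hM hi, hi.idem]
  rw [← trace_resAct]
  exact trace_eq_one_of_isProj hv₀ _ hproj

theorem tau_idem_other (hM : IsPModular p M) (hi : IsPI i) {w : RG M G} (hw : IsPI w)
    (hne : col i ≠ col w) : ∑ g : G, red M (w.coeff g) * tau i g = 0 := by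
  have hz : ∀ z, resF i (w * z) = 0 := by
    intro z
    funext h
    show eps i _ = 0
    rw [← map_zero (red M)]
    refine eps_eq hM hi (by rw [← mul_assoc, ← mul_assoc, hi.idem]) (by rw [mul_assoc, hi.idem]) ?_
    rw [zero_smul, sub_zero]
    rintro ⟨a, -, -, -, hca, -⟩
    refine hne (col_eq_of_factor (x := i * (el h * w)) (y := w * z * (i * a)) hi.idem hi.ne_zero hw
      ?_ ?_ ?_ ?_)
    · rw [show i * (el h * w) * (w * z * (i * a)) = i * (el h * ((w * w) * z)) * i * a by
        simp only [mul_assoc], hw.idem, hca]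
    · simp only [mul_assoc, hw.idem]
    · simp only [← mul_assoc, hw.idem]
    · simp only [← mul_assoc, hi.idem]
  rw [← trace_resAct]
  have h0 : resAct (i := i) w = 0 := by
    refine LinearMap.ext fun v => ?_
    obtain ⟨v, hv⟩ := v
    induction hv using Submodule.span_induction with
    | mem x hx =>
      obtain ⟨z, rfl⟩ := hx
      refine Subtype.ext ?_
      rw [resAct_resF hM hi, hz]
      rfl
    | zero => rw [show (⟨0, _⟩ : resW i) = 0 from rfl, map_zero, map_zero]
    | add x y hx hy h1 h2 =>
      rw [show (⟨x + y, _⟩ : resW i) = ⟨x, hx⟩ + ⟨y, hy⟩ from rfl, map_add, h1, h2, map_add]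
    | smul a x hx h1 =>
      rw [show (⟨a • x, _⟩ : resW i) = a • ⟨x, hx⟩ from rfl, map_smul, h1, map_smul]
  rw [h0, map_zero]

/-- The trace function only depends on the `p'`-part. -/
theorem tau_pPart (hM : IsPModular p M) (hi : IsPI i) {x r : G} (hxr : Commute x r)
    (hx : ∃ k : ℕ, orderOf x = p ^ k) : tau i (x * r) = tau i r := by
  classical
  haveI := Fact.mk hM.1
  haveI := resField_charP (M := M) hM
  obtain ⟨k, hk⟩ := hx
  rw [tau, tau, map_mul]
  exact trace_mul_eq_of_pow (p := p) (k := k) _ _ (hxr.map (resRep i))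
    (by rw [← map_pow, ← hk, pow_orderOf_eq_one, map_one])

end Module

variable (p G) in
/-- The classes of `p`-regular elements. -/
abbrev RegClass : Type u := {C : ConjClasses G // ∃ g : G, ConjClasses.mk g = C ∧ IsPRegular p g}

/-- A representative. -/
noncomputable def regRep (C : RegClass G p) : G := C.2.choose

theorem regRep_spec (C : RegClass G p) :
    ConjClasses.mk (regRep C) = C.1 ∧ IsPRegular p (regRep C) := C.2.choose_spec

/-- The number of columns of primitive idempotents is at most the number of regular classes. -/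
theorem card_cols_le [Fintype (RegClass G p)] (hM : IsPModular p M) (U : Finset (IrrCharacter G → ℂ))
    (hU : ∀ u ∈ U, ∃ j, IsPI (M := M) j ∧ col j = u) :
    U.card ≤ Fintype.card (RegClass G p) := by
  classical
  choose jj hj hju using hU
  let v : U → (RegClass G p → ResField M) := fun u C => tau (jj u.1 u.2) (regRep C)
  have hli : LinearIndependent (ResField M) v := by
    rw [Fintype.linearIndependent_iff]
    intro a ha w
    have hrep : ∀ C : RegClass G p, ∑ u : U, a u * tau (jj u.1 u.2) (regRep C) = 0 := fun C => by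
      simpa [v, Finset.sum_apply] using congrFun ha C
    have hall : ∀ g : G, ∑ u : U, a u * tau (jj u.1 u.2) g = 0 := by
      intro g
      obtain ⟨x, hx⟩ := exists_isPPart hM.1 g
      obtain ⟨r, hxr, hcx, hxk, hr⟩ := hx
      obtain ⟨t, ht⟩ := isConj_iff.1 (ConjClasses.mk_eq_mk_iff_isConj.1
        (regRep_spec (⟨ConjClasses.mk r, r, rfl, hr⟩ : RegClass G p)).1)
      rw [← hrep ⟨ConjClasses.mk r, r, rfl, hr⟩]
      refine Finset.sum_congr rfl fun u _ => ?_
      rw [← hxr, tau_pPart hM (hj u.1 u.2) hcx hxk]
      conv_lhs => rw [← ht, tau_conj]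
    have h1 : ∑ g : G, red M ((jj w.1 w.2).coeff g) * ∑ u : U, a u * tau (jj u.1 u.2) g = 0 :=
      Finset.sum_eq_zero fun g _ => by rw [hall g, mul_zero]
    simp only [Finset.mul_sum, mul_left_comm _ (a _)] at h1
    rw [Finset.sum_comm] at h1
    simp only [← Finset.mul_sum] at h1
    rw [Finset.sum_eq_single w, tau_idem_self hM (hj w.1 w.2), mul_one] at h1
    · exact h1
    · intro u _ hne
      rw [tau_idem_other hM (hj u.1 u.2) (hj w.1 w.2) (fun h => hne (Subtype.ext (by
        rw [← hju u.1 u.2, h, hju w.1 w.2]))), mul_zero]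
    · exact fun h => absurd (Finset.mem_univ w) h
  simpa using hli.fintype_card_le_finrank

end Cfsg.Agent.Lib.BlockDegreeSum
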