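import Cfsg.Agent.Lib.BlockDegreeSum.Columns
import Cfsg.Agent.Lib.BlockHeights.DegreeSum
import Cfsg.Agent.Lib.Characters.Monomial
import Cfsg.Agent.Lib.Characters.BrauerMain
import Mathlib.GroupTheory.Nilpotent

/-!
# Coordinate functionals of the columns are lifted by generalized characters

The degree of such a lift counts the idempotents of a column, so the greatest common divisor of the
degrees of a block divides these multiplicities; this gives the sum of the squared degrees.
-/

set_option autoImplicit false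
set_option linter.unusedSectionVars false
set_option linter.style.haveILetI false

namespace Cfsg.Agent.Lib.BlockDegreeSum

open Cfsg Cfsg.Agent.Lib.Blocks Cfsg.Agent.Lib.BrauerStar Cfsg.Agent.Lib.Characters
  Cfsg.Agent.Lib.CyclicCorner
open scoped ComplexConjugate

universe u

variable {G : Type u} [Group G] [Fintype G] {M : Ideal AlgInt} [hMp : M.IsPrime] {p : ℕ}
variable [Fintype (IrrCharacter G)]

/-- The class function with the given coordinates. -/
noncomputable def theta (a : IrrCharacter G → ℂ) (g : G) : ℂ :=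
  ∑ χ : IrrCharacter G, a χ * (χ : G → ℂ) g

theorem isClassFunction_theta (a : IrrCharacter G → ℂ) : IsClassFunction G (theta a) := fun g h => by
  simp only [theta]
  exact Finset.sum_congr rfl fun χ _ => by rw [irr_isClassFunction χ g h]

theorem ev_theta (a : IrrCharacter G → ℂ) (j : RG M G) :
    ev (theta a) j = ∑ χ : IrrCharacter G, a χ * col j χ := by
  simp only [ev, theta, col, Finset.mul_sum]
  rw [Finset.sum_comm]
  exact Finset.sum_congr rfl fun χ _ => Finset.sum_congr rfl fun g _ => by ring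

variable {T : Finset (RG M G)}

theorem col_mem_image [DecidableEq (IrrCharacter G → ℂ)]
    (hT : IsDecomp (⊤ : Subalgebra (locSubring M) (RG M G)) 1 T) {j : RG M G} (hj : IsPI j) :
    col j ∈ T.image col := by
  obtain ⟨w, hw, h⟩ := exists_col_eq hT hj (mul_one j)
  exact Finset.mem_image.2 ⟨w, hw, h.symm⟩

theorem ev_theta_idem_mem (hT : IsDecomp (⊤ : Subalgebra (locSubring M) (RG M G)) 1 T)
    (S : AddSubmonoid ℂ) {a : IrrCharacter G → ℂ} (h : ∀ j ∈ T, ev (theta a) j ∈ S) {f : RG M G}
    (hf : f * f = f) : ev (theta a) f ∈ S := by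
  obtain ⟨T', hT'⟩ := exists_isDecomp (S := (⊤ : Subalgebra (locSubring M) (RG M G))) smul_eq_zero'
    (Algebra.mem_top (x := f)) hf
  rw [← hT'.sum, ev_sum]
  refine S.sum_mem fun j hj => ?_
  obtain ⟨w, hw, hwj⟩ := exists_col_eq hT (hT'.prim j hj) (mul_one j)
  rw [ev_theta, hwj, ← ev_theta]
  exact h w hw

set_option maxHeartbeats 1000000 in
/-- The multiplicities of the irreducible characters of a nilpotent `p'`-subgroup. -/
theorem classInner_restrict_mem (hM : IsPModular p M)
    (hT : IsDecomp (⊤ : Subalgebra (locSubring M) (RG M G)) 1 T) (S : AddSubmonoid ℂ)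
    {a : IrrCharacter G → ℂ} (h : ∀ j ∈ T, ev (theta a) j ∈ S) (K : Subgroup G) [Fintype K]
    [Group.IsNilpotent K] (hK : ∀ x ∈ K, IsPRegular p x) (η : IrrCharacter K) :
    classInner (fun x : K => theta a x) (η : K → ℂ) ∈ S := by
  classical
  haveI := Fact.mk hM.1
  obtain ⟨H, lam, hη⟩ := exists_monomial η.2
  haveI := Fintype.ofFinite H
  rw [hη, classInner_indFun_right H _ (fun x y => isClassFunction_theta a x y)]
  have hcard : ¬ p ∣ Nat.card H := fun hd => by
    obtain ⟨x, hx⟩ := exists_prime_orderOf_dvd_card' p hd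
    refine hK _ (x : K).2 ?_
    rw [Subgroup.orderOf_coe, Subgroup.orderOf_coe, hx]
  have hlam : ∀ x : H, ((lam x : ℂˣ) : ℂ) ^ orderOf x = 1 := fun x => by
    rw [← Units.val_pow_eq_pow_val, ← map_pow, pow_orderOf_eq_one, map_one, Units.val_one]
  have hlamR : ∀ x : H, MemLocalRing M ((lam x : ℂˣ) : ℂ) := fun x =>
    memLocalRing_of_isIntegral' (IsIntegral.of_pow (orderOf_pos x) (by
      rw [hlam x]; exact isIntegral_one))
  let c : H → locSubring M := fun x => ⟨(Nat.card H : ℂ)⁻¹ * ((lam x⁻¹ : ℂˣ) : ℂ),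
    memLocalRing_mul (memLocalRing_inv_natCast hM hcard) (hlamR _)⟩
  let ε : RG M G := ∑ x : H, c x • el ((x : K) : G)
  have hεε : ε * ε = ε := by
    have e1 : ∀ x y : H, (c x • el ((x : K) : G) : RG M G) * (c y • el ((y : K) : G)) =
        (c x * c y) • el (((x : K) : G) * ((y : K) : G)) := fun x y => by
      rw [smul_mul_assoc, mul_smul_comm, smul_smul, ← el_mul]
    calc ε * ε = ∑ x : H, ∑ y : H, (c x * c y) • el (((x : K) : G) * ((y : K) : G)) :=
          (Finset.sum_mul_sum _ _ _ _).trans
            (Finset.sum_congr rfl fun x _ => Finset.sum_congr rfl fun y _ => e1 x y)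
      _ = ∑ x : H, ∑ t : H, (c x * c (x⁻¹ * t)) • el ((t : K) : G) :=
          Finset.sum_congr rfl fun x _ => Fintype.sum_equiv (Equiv.mulLeft x) _ _ fun y => by simp
      _ = _ := by
        rw [Finset.sum_comm]
        refine Finset.sum_congr rfl fun t _ => ?_
        rw [← Finset.sum_smul]
        congr 1
        refine Subtype.ext ?_
        rw [AddSubmonoidClass.coe_finsetSum]
        rw [Finset.sum_congr rfl fun x (_ : x ∈ Finset.univ) => show ((c x * c (x⁻¹ * t) :
            locSubring M) : ℂ) = (Nat.card H : ℂ)⁻¹ * (c t : ℂ) by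
          simp only [c, Subring.coe_mul, mul_inv_rev, inv_inv, map_mul, Units.val_mul]
          have h1 : ((lam x⁻¹ : ℂˣ) : ℂ) * ((lam x : ℂˣ) : ℂ) = 1 := by
            rw [← Units.val_mul, ← map_mul, inv_mul_cancel, map_one, Units.val_one]
          linear_combination ((Nat.card H : ℂ)⁻¹ * (Nat.card H : ℂ)⁻¹ *
            ((lam t⁻¹ : ℂˣ) : ℂ)) * h1]
        rw [Finset.sum_const, Finset.card_univ, ← Nat.card_eq_fintype_card, nsmul_eq_mul, ← mul_assoc,
          mul_inv_cancel₀ (Nat.cast_ne_zero.2 Nat.card_pos.ne'), one_mul]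
  have hval : classInner (fun x : H => theta a ((x : K) : G)) (fun x => ((lam x : ℂˣ) : ℂ)) =
      ev (theta a) ε := by
    simp only [classInner, ε, ev_sum, ev_smul, ev_el, Finset.mul_sum]
    refine Finset.sum_congr rfl fun x _ => ?_
    rw [← Complex.inv_eq_conj (Complex.norm_eq_one_of_pow_eq_one (hlam x) (orderOf_pos x).ne'),
      ← Units.val_inv_eq_inv_val, ← map_inv]
    simp only [c]
    ring
  exact hval ▸ ev_theta_idem_mem hT S h hεε

/-- If the coordinates annihilate all columns the function vanishes on the regular elements. -/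
theorem theta_eq_zero (hM : IsPModular p M)
    (hT : IsDecomp (⊤ : Subalgebra (locSubring M) (RG M G)) 1 T) {a : IrrCharacter G → ℂ}
    (h : ∀ j ∈ T, ev (theta a) j = 0) {g : G} (hg : IsPRegular p g) : theta a g = 0 := by
  classical
  set K := Subgroup.zpowers g with hK
  haveI := Fintype.ofFinite K
  haveI := Fintype.ofFinite (IrrCharacter K)
  letI : CommGroup K := IsCyclic.commGroup
  haveI : Group.IsNilpotent K := CommGroup.isNilpotent
  have hreg : ∀ x ∈ K, IsPRegular p x := fun x hx hd =>
    hg (hd.trans (orderOf_dvd_of_mem_zpowers hx))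
  have hcl : IsClassFunction K (fun x : K => theta a x) := fun x y =>
    isClassFunction_theta a x y
  have h0 := congrFun (eq_sum_classInner hcl) ⟨g, Subgroup.mem_zpowers g⟩
  rw [Finset.sum_apply, Finset.sum_eq_zero] at h0
  · exact h0
  · intro η _
    have := classInner_restrict_mem hM hT ⊥ (fun j hj => AddSubmonoid.mem_bot.2 (h j hj)) K hreg η
    rw [Pi.smul_apply, AddSubmonoid.mem_bot.1 this, zero_smul]

theorem finrank_range_le {V W W' : Type*} [AddCommGroup V] [Module ℂ V] [FiniteDimensional ℂ V]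
    [AddCommGroup W] [Module ℂ W] [AddCommGroup W'] [Module ℂ W'] (f : V →ₗ[ℂ] W) (g : V →ₗ[ℂ] W')
    (h : LinearMap.ker g ≤ LinearMap.ker f) :
    Module.finrank ℂ (LinearMap.range f) ≤ Module.finrank ℂ (LinearMap.range g) := by
  have h1 := f.finrank_range_add_finrank_ker
  have h2 := g.finrank_range_add_finrank_ker
  have h3 := Submodule.finrank_mono h
  omega

/-- Combination of given vectors with the coordinates in a set of characters. -/
noncomputable def comb {W : Type*} [AddCommGroup W] [Module ℂ W] (s : Finset (IrrCharacter G))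
    (v : IrrCharacter G → W) : (IrrCharacter G → ℂ) →ₗ[ℂ] W :=
  ∑ χ ∈ s, (LinearMap.proj χ).smulRight (v χ)

theorem comb_apply {W : Type*} [AddCommGroup W] [Module ℂ W] (s : Finset (IrrCharacter G))
    (v : IrrCharacter G → W) (a : IrrCharacter G → ℂ) : comb s v a = ∑ χ ∈ s, a χ • v χ := by
  simp [comb]

/-- **Coordinate functionals of the columns.** -/
theorem exists_coord [DecidableEq (IrrCharacter G → ℂ)] (hM : IsPModular p M)
    (hT : IsDecomp (⊤ : Subalgebra (locSubring M) (RG M G)) 1 T) (u₀ : IrrCharacter G → ℂ) :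
    ∃ a : IrrCharacter G → ℂ, ∀ j ∈ T, ev (theta a) j = if col j = u₀ then 1 else 0 := by
  classical
  set U := T.image col with hU
  haveI : Finite (ConjClasses G) := Finite.of_surjective _ ConjClasses.mk_surjective
  haveI := Fintype.ofFinite (RegClass G p)
  let Lam := comb Finset.univ (fun χ : IrrCharacter G => fun u : U => (u : IrrCharacter G → ℂ) χ)
  let Xi := comb Finset.univ
    (fun χ : IrrCharacter G => fun C : RegClass G p => (χ : G → ℂ) (regRep C))
  have hXi : Function.Surjective Xi := by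
    intro f
    let F : G → ℂ := fun g => if hg : IsPRegular p g then f ⟨ConjClasses.mk g, g, rfl, hg⟩ else 0
    have hF : IsClassFunction G F := fun g h => by
      have e : ConjClasses.mk (h * g * h⁻¹) = ConjClasses.mk g :=
        ConjClasses.mk_eq_mk_iff_isConj.2 (isConj_iff.2 ⟨h⁻¹, by group⟩)
      simp only [F]
      by_cases hg : IsPRegular p g
      · rw [dif_pos hg, dif_pos ((BlockHeights.isPRegular_conj_iff p g h).2 hg)]
        exact congrArg f (Subtype.ext e)
      · rw [dif_neg hg, dif_neg fun h' => hg ((BlockHeights.isPRegular_conj_iff p g h).1 h')]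
    refine ⟨fun χ => classInner F (χ : G → ℂ), funext fun C => ?_⟩
    have h := congrFun (eq_sum_classInner hF) (regRep C)
    simp only [Finset.sum_apply, Pi.smul_apply] at h
    simp only [Xi, comb_apply, Finset.sum_apply, Pi.smul_apply]
    rw [← h]
    simp only [F, dif_pos (regRep_spec C).2]
    exact congrArg f (Subtype.ext (regRep_spec C).1)
  have hker : LinearMap.ker Lam ≤ LinearMap.ker Xi := by
    intro a ha
    rw [LinearMap.mem_ker] at ha ⊢
    have h0 : ∀ j ∈ T, ev (theta a) j = 0 := fun j hj => by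
      have := congrFun ha ⟨col j, Finset.mem_image_of_mem col hj⟩
      simpa [Lam, comb_apply, Finset.sum_apply, ev_theta] using this
    funext C
    have := theta_eq_zero hM hT h0 (regRep_spec C).2
    simpa [Xi, comb_apply, Finset.sum_apply, theta] using this
  have h1 := finrank_range_le Xi Lam hker
  rw [LinearMap.range_eq_top.2 hXi, finrank_top, Module.finrank_fintype_fun_eq_card] at h1
  have h2 := card_cols_le (p := p) hM U fun u hu => by
    obtain ⟨j, hj, rfl⟩ := Finset.mem_image.1 hu
    exact ⟨j, hT.prim j hj, rfl⟩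
  have hsurj : Function.Surjective Lam := LinearMap.range_eq_top.1
    (Submodule.eq_top_of_finrank_eq (le_antisymm (Submodule.finrank_le _) (by
      rw [Module.finrank_fintype_fun_eq_card, Fintype.card_coe]; exact h2.trans h1)))
  obtain ⟨a, ha⟩ := hsurj fun u => if (u : IrrCharacter G → ℂ) = u₀ then 1 else 0
  refine ⟨a, fun j hj => ?_⟩
  have := congrFun ha ⟨col j, Finset.mem_image_of_mem col hj⟩
  simpa [Lam, comb_apply, Finset.sum_apply, ev_theta] using this

variable {B : Set (IrrCharacter G)}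

theorem eq_zero_or_of_block (hM : IsPModular p M) (hB : IsPBlock M B) {j : RG M G} (hj : IsPI j) :
    j * eBlock hM hB = 0 ∨ j * eBlock hM hB = j := by
  refine hj.eq_or _ Algebra.mem_top ?_ (by rw [← mul_assoc, hj.idem]) ?_
  · rw [show j * eBlock hM hB * (j * eBlock hM hB) = j * (eBlock hM hB * j) * eBlock hM hB by
      simp only [mul_assoc], eBlock_mul_comm hM hB j, ← mul_assoc, hj.idem, mul_assoc,
      eBlock_idem hM hB]
  · rw [mul_assoc, eBlock_mul_comm hM hB j, ← mul_assoc, hj.idem]

/-- Truncation of coordinates to the block. -/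
noncomputable def trunB (B : Set (IrrCharacter G)) (a : IrrCharacter G → ℂ) : IrrCharacter G → ℂ :=
  fun χ => by classical exact if χ ∈ B then a χ else 0

theorem ev_trunB [DecidableEq (RG M G)] (hM : IsPModular p M) (hB : IsPBlock M B) (a : IrrCharacter G → ℂ) {j : RG M G}
    (hj : IsPI j) : ev (theta (trunB B a)) j =
      if j * eBlock hM hB = j then ev (theta a) j else 0 := by
  classical
  rw [ev_theta, ev_theta]
  split_ifs with h
  · refine Finset.sum_congr rfl fun χ _ => ?_
    simp only [trunB]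
    split_ifs with hχ
    · rfl
    · rw [col, ev_eq_zero_of_not_mem hM hB h hχ, mul_zero, mul_zero]
  · refine Finset.sum_eq_zero fun χ _ => ?_
    simp only [trunB]
    split_ifs with hχ
    · rw [col, ← ev_mul_eBlock hM hB hχ, (eq_zero_or_of_block hM hB hj).resolve_right h, ev_zero,
        mul_zero]
    · rw [zero_mul]

/-- The rank of a block is at most its number of columns. -/
theorem blockRank_le_cols [DecidableEq (IrrCharacter G → ℂ)] [DecidableEq (RG M G)]
    (hM : IsPModular p M) (hB : IsPBlock M B)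
    (hT : IsDecomp (⊤ : Subalgebra (locSubring M) (RG M G)) 1 T) :
    blockRank p B ≤ ((T.filter fun j => j * eBlock hM hB = j).image col).card := by
  classical
  set UB := (T.filter fun j => j * eBlock hM hB = j).image col with hUB
  set s := (Finset.univ : Finset (IrrCharacter G)).filter (· ∈ B) with hs
  let F := comb s (fun χ : IrrCharacter G => pRegularPart p (χ : G → ℂ))
  let LB := comb s (fun χ : IrrCharacter G => fun u : UB => (u : IrrCharacter G → ℂ) χ)
  have hker : LinearMap.ker LB ≤ LinearMap.ker F := by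
    intro a ha
    rw [LinearMap.mem_ker] at ha ⊢
    have h0 : ∀ j ∈ T, ev (theta (trunB B a)) j = 0 := fun j hj => by
      rw [ev_trunB hM hB a (hT.prim j hj)]
      split_ifs with h
      · have h1 := congrFun ha ⟨col j, Finset.mem_image_of_mem col (Finset.mem_filter.2 ⟨hj, h⟩)⟩
        simp only [LB, comb_apply, Finset.sum_apply, Pi.smul_apply, smul_eq_mul] at h1
        rw [ev_theta, ← Finset.sum_subset (Finset.subset_univ s) fun χ _ hχ => by
          rw [col, ev_eq_zero_of_not_mem hM hB h (by simpa [hs] using hχ), mul_zero]]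
        exact h1
      · rfl
    funext g
    simp only [F, comb_apply, Finset.sum_apply, Pi.smul_apply, BlockHeights.pRegularPart_eq]
    by_cases hg : IsPRegular p g
    · have := theta_eq_zero hM hT h0 hg
      simp only [theta, trunB, ite_mul, zero_mul] at this
      rw [← Finset.sum_filter] at this
      simpa [BlockHeights.regInd_of_regular hg] using this
    · simp [BlockHeights.regInd_of_singular hg]
  have hspan : Submodule.span ℂ ((fun χ : IrrCharacter G => pRegularPart p (χ : G → ℂ)) '' B) ≤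
      LinearMap.range F := by
    refine Submodule.span_le.2 ?_
    rintro _ ⟨χ, hχ, rfl⟩
    refine ⟨Pi.single χ 1, ?_⟩
    simp only [F, comb_apply]
    rw [Finset.sum_eq_single χ]
    · simp
    · intro b _ hb; simp [hb]
    · exact fun h => absurd (by simp [hs, hχ]) h
  refine (Submodule.finrank_mono hspan).trans ((finrank_range_le F LB hker).trans ?_)
  refine (Submodule.finrank_le _).trans ?_
  rw [Module.finrank_fintype_fun_eq_card, Fintype.card_coe]

/-- An exponent extracting the `p'`-part of every element. -/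
theorem exists_regExp (hp : p.Prime) : ∃ N : ℕ, (∀ g : G, IsPRegular p (g ^ N)) ∧
    (∀ g : G, IsPRegular p g → g ^ N = g) ∧
    ∀ (g : G) (k : ℕ), orderOf g = p ^ k → g ^ N = 1 := by
  obtain ⟨v, m, hm, he⟩ := Nat.exists_eq_pow_mul_and_not_dvd (Nat.card_pos (α := G)).ne' p hp.ne_one
  have hcop : (p ^ v).Coprime m := (hp.coprime_iff_not_dvd.2 hm).pow_left v
  obtain ⟨N, hN0, hN1⟩ := Nat.chineseRemainder hcop 0 1
  have hN0' : p ^ v ∣ N := Nat.modEq_zero_iff_dvd.1 hN0
  refine ⟨N, fun g hd => hm (hd.trans (orderOf_dvd_of_pow_eq_one ?_)), fun g hg => ?_, fun g k hk => ?_⟩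
  · rw [← pow_mul]
    obtain ⟨c, rfl⟩ := hN0'
    rw [show p ^ v * c * m = p ^ v * m * c by ring, ← he, pow_mul, pow_card_eq_one', one_pow]
  · have h1 : orderOf g ∣ m :=
      (((hp.coprime_iff_not_dvd.2 hg).pow_left v).symm).dvd_of_dvd_mul_left
        (he ▸ orderOf_dvd_natCard g)
    conv_rhs => rw [← pow_one g]
    exact pow_eq_pow_iff_modEq.2 (hN1.of_dvd h1)
  · refine orderOf_dvd_iff_pow_eq_one.1 ((Nat.Coprime.dvd_of_dvd_mul_right ?_
      (he ▸ orderOf_dvd_natCard g)).trans hN0')
    rw [hk]
    exact (hp.coprime_iff_not_dvd.2 hm).pow_left k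

/-- **The lift of a coordinate function is a generalized character.** -/
theorem isGeneralizedCharacter_lift (hM : IsPModular p M)
    (hT : IsDecomp (⊤ : Subalgebra (locSubring M) (RG M G)) 1 T) {a : IrrCharacter G → ℂ}
    (h : ∀ j ∈ T, ∃ n : ℤ, ev (theta a) j = n) :
    ∃ φ : G → ℂ, IsGeneralizedCharacter G φ ∧ ∀ g, IsPRegular p g → φ g = theta a g := by
  classical
  obtain ⟨N, hN1, hN2, hN3⟩ := exists_regExp (G := G) hM.1
  refine ⟨fun g => theta a (g ^ N), ?_, fun g hg => by show theta a (g ^ N) = _; rw [hN2 g hg]⟩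
  refine isGeneralizedCharacter_of_elementary (fun g x => ?_) fun E q hq hE => ?_
  · show theta a ((x * g * x⁻¹) ^ N) = _
    rw [conj_pow, isClassFunction_theta a]
  haveI : Group.IsNilpotent E := IsElementary.isNilpotent hq hE
  obtain ⟨e⟩ := (Group.isNilpotent_of_finite_tfae.out 0 4 rfl rfl).1 ‹Group.IsNilpotent E›
  have hmul : ∀ x y : E, (x * y) ^ N = x ^ N * y ^ N := by
    intro x y
    obtain ⟨x, rfl⟩ := e.surjective x
    obtain ⟨y, rfl⟩ := e.surjective y
    rw [← map_mul, ← map_pow, ← map_pow, ← map_pow, ← map_mul]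
    congr 1
    funext r P
    simp only [Pi.pow_apply, Pi.mul_apply]
    haveI := Fact.mk (Nat.prime_of_mem_primeFactors r.2)
    have key : ∀ z : (P : Subgroup E), z ^ N = if (r : ℕ) = p then 1 else z := fun z => by
      obtain ⟨k, hk⟩ := IsPGroup.iff_orderOf.1 P.2 z
      rw [← Subgroup.orderOf_coe, ← Subgroup.orderOf_coe] at hk
      split_ifs with hr
      · refine Subtype.ext (Subtype.ext ?_)
        rw [SubmonoidClass.coe_pow, SubmonoidClass.coe_pow, hN3 _ k (hr ▸ hk)]
        rfl
      · refine Subtype.ext (Subtype.ext ?_)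
        rw [SubmonoidClass.coe_pow, SubmonoidClass.coe_pow, hN2]
        intro hd
        rw [hk] at hd
        exact hr ((Nat.prime_dvd_prime_iff_eq hM.1 Fact.out).1 (hM.1.dvd_of_dvd_pow hd)).symm
    rw [key, key, key]
    split_ifs <;> simp
  let f : E →* G := MonoidHom.mk' (fun x => (x : G) ^ N) fun x y => by
    rw [← SubmonoidClass.coe_pow, hmul, Subgroup.coe_mul, SubmonoidClass.coe_pow,
      SubmonoidClass.coe_pow]
  haveI : Group.IsNilpotent f.range := Group.nilpotent_of_surjective f.rangeRestrict f.rangeRestrict_surjective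
  haveI := Fintype.ofFinite f.range
  have hgc : IsGeneralizedCharacter f.range (fun x : f.range => theta a x) :=
    isGeneralizedCharacter_iff_classInner_int.2 ⟨fun x y => isClassFunction_theta a x y, fun η => by
      have := classInner_restrict_mem hM hT (Int.castAddHom ℂ).range.toAddSubmonoid
        (fun j hj => by obtain ⟨n, hn⟩ := h j hj; exact ⟨n, hn.symm⟩) f.range
        (by rintro _ ⟨x, rfl⟩; exact hN1 _) η
      obtain ⟨n, hn⟩ := this
      exact ⟨n, hn.symm⟩⟩
  exact IsGeneralizedCharacter.comp hgc f.rangeRestrict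

/-- The degree divisor divides the number of idempotents of a column. -/
theorem dvd_count [DecidableEq (IrrCharacter G → ℂ)] [DecidableEq (RG M G)] (hM : IsPModular p M)
    (hB : IsPBlock M B) (hT : IsDecomp (⊤ : Subalgebra (locSubring M) (RG M G)) 1 T) {g : ℕ}
    (hg : ∀ χ ∈ B, g ∣ charDegree (χ : G → ℂ)) (u₀ : IrrCharacter G → ℂ) :
    g ∣ ((T.filter fun j => j * eBlock hM hB = j).filter fun j => col j = u₀).card := by
  classical
  obtain ⟨a, ha⟩ := exists_coord hM hT u₀
  have hval : ∀ j ∈ T, ev (theta (trunB B a)) j =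
      if j * eBlock hM hB = j ∧ col j = u₀ then 1 else 0 := fun j hj => by
    rw [ev_trunB hM hB a (hT.prim j hj), ha j hj]
    split_ifs <;> simp_all
  obtain ⟨φ, hφ, hφθ⟩ := isGeneralizedCharacter_lift hM hT (a := trunB B a) fun j hj => by
    rw [hval j hj]
    split_ifs
    exacts [⟨1, by simp⟩, ⟨0, by simp⟩]
  set e := eBlock hM hB with he
  have hev : ev φ e = ev (theta (trunB B a)) e := Finset.sum_congr rfl fun g _ => by
    by_cases hg' : IsPRegular p g
    · rw [hφθ g hg']
    · rw [he, coef_eBlock, BlockHeights.blockCoeff_eq_zero_of_singular hM hB hg', zero_mul, zero_mul]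
  have hevB : ∀ χ : IrrCharacter G, ev (χ : G → ℂ) e =
      if χ ∈ B then (χ : G → ℂ) 1 else 0 := fun χ => by
    split_ifs with hχ
    · rw [← one_mul e, he, ev_mul_eBlock hM hB hχ, ← el_one, ev_el]
    · exact ev_eq_zero_of_not_mem hM hB (eBlock_idem hM hB) hχ
  have hone : ev (theta (trunB B a)) e = ev (theta (trunB B a)) (1 : RG M G) := by
    rw [ev_theta, ev_theta]
    refine Finset.sum_congr rfl fun χ _ => ?_
    simp only [trunB, col]
    split_ifs with hχ
    · rw [hevB χ, if_pos hχ, ← el_one, ev_el]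
    · rw [zero_mul, zero_mul]
  rw [hone, ← hT.sum, ev_sum, Finset.sum_congr rfl hval, Finset.sum_boole] at hev
  obtain ⟨n, hn⟩ : ∃ n : IrrCharacter G → ℤ, ∀ χ : IrrCharacter G, classInner φ (χ : G → ℂ) = n χ := by
    choose n hn using fun χ : IrrCharacter G => (isGeneralizedCharacter_iff_classInner_int.1 hφ).2 χ
    exact ⟨n, hn⟩
  have hexp : φ = theta (fun χ => (n χ : ℂ)) := by
    funext y
    conv_lhs => rw [eq_sum_classInner (IsGeneralizedCharacter.isClassFunction hφ)]
    simp [theta, Finset.sum_apply, hn]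
  rw [hexp, ev_theta] at hev
  rw [Finset.filter_filter]
  have hdvd : (g : ℤ) ∣ ((T.filter fun j => j * e = j ∧ col j = u₀).card : ℤ) := by
    have h2 : ((((T.filter fun j => j * e = j ∧ col j = u₀).card : ℤ)) : ℂ) =
        ((∑ χ : IrrCharacter G, if χ ∈ B then n χ * charDegree (χ : G → ℂ) else 0 : ℤ) : ℂ) := by
      rw [Int.cast_natCast, ← hev, Int.cast_sum]
      refine Finset.sum_congr rfl fun χ _ => ?_
      rw [col, hevB χ]
      split_ifs
      · rw [BlockHeights.irr_apply_one]; push_cast; ring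
      · simp
    rw [Int.cast_injective h2]
    refine Finset.dvd_sum fun χ _ => ?_
    split_ifs with hχ
    · exact dvd_mul_of_dvd_right (Int.natCast_dvd_natCast.2 (hg χ hχ)) _
    · exact dvd_zero _
  exact Int.natCast_dvd_natCast.1 hdvd

/-- The degree of a projective column. -/
theorem column_degree (hM : IsPModular p M) (hB : IsPBlock M B) {j : RG M G} (hj : IsPI j)
    (hje : j * eBlock hM hB = j) :
    ∃ P : ℕ, 0 < P ∧ (∑ χ : IrrCharacter G, col j χ * (χ : G → ℂ) 1) = P ∧
      p ^ (Nat.card G).factorization p ∣ P ∧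
      ∀ g : ℕ, (∀ χ ∈ B, g ∣ charDegree (χ : G → ℂ)) → g ∣ P := by
  classical
  choose c hc using fun χ : IrrCharacter G => exists_ev_eq_nat (irr_isCharacter χ) hj.idem
  have hsum : ∀ g, phiSum j g⁻¹ = ∑ χ : IrrCharacter G, (c χ : ℂ) * (χ : G → ℂ) g := by
    intro g
    have hcl : IsClassFunction G (fun g => phiSum j g⁻¹) := fun g y => by
      show phiSum j (y * g * y⁻¹)⁻¹ = phiSum j g⁻¹
      rw [← isClassFunction_phiSum j g⁻¹ y]
      congr 1
      group
    have h1 := congrFun (eq_sum_classInner hcl) g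
    simp only [Finset.sum_apply, Pi.smul_apply, smul_eq_mul] at h1
    rw [h1]
    refine Finset.sum_congr rfl fun χ _ => ?_
    rw [← hc χ]
    congr 1
    rw [classInner_eq_sum_inv (irr_isCharacter χ), Fintype.sum_equiv (Equiv.inv G)
      (fun g => phiSum j g⁻¹ * (χ : G → ℂ) g⁻¹) (fun g => phiSum j g * (χ : G → ℂ) g) (fun g => rfl),
      sum_phiSum_mul j (irr_isClassFunction χ), ← mul_assoc,
      inv_mul_cancel₀ natCard_ne_zero_complex, one_mul]
  have hPc : (∑ χ : IrrCharacter G, col j χ * (χ : G → ℂ) 1) =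
      ((∑ χ : IrrCharacter G, c χ * charDegree (χ : G → ℂ) : ℕ) : ℂ) := by
    push_cast
    exact Finset.sum_congr rfl fun χ _ => by rw [col, hc, BlockHeights.irr_apply_one]
  have hgen : IsGeneralizedCharacter G (fun g => phiSum j g⁻¹) := by
    refine isGeneralizedCharacter_iff_classInner_int.2 ⟨fun g y => ?_, fun χ => ⟨c χ, ?_⟩⟩
    · show phiSum j (y * g * y⁻¹)⁻¹ = phiSum j g⁻¹
      rw [← isClassFunction_phiSum j g⁻¹ y]
      congr 1
      group
    · rw [Int.cast_natCast, ← hc χ, classInner_eq_sum_inv (irr_isCharacter χ),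
        Fintype.sum_equiv (Equiv.inv G) (fun g => phiSum j g⁻¹ * (χ : G → ℂ) g⁻¹)
          (fun g => phiSum j g * (χ : G → ℂ) g) (fun g => rfl),
        sum_phiSum_mul j (irr_isClassFunction χ), ← mul_assoc,
        inv_mul_cancel₀ natCard_ne_zero_complex, one_mul]
  obtain ⟨k, hk⟩ := BlockHeights.pow_dvd_of_vanish hM.1 hgen fun g hg =>
    phiSum_eq_zero hM hj.idem fun h => hg (by rwa [IsPRegular, orderOf_inv] at h)
  have hone : ((∑ χ : IrrCharacter G, c χ * charDegree (χ : G → ℂ) : ℕ) : ℂ) = phiSum j 1 := by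
    rw [← inv_one, hsum, ← hPc]
    simp [col, hc]
  refine ⟨_, Nat.pos_of_ne_zero fun h0 => phiSum_one_ne_zero hj.idem hj.ne_zero
    (by rw [← hone, h0, Nat.cast_zero]), hPc, ?_, fun g hg => Finset.dvd_sum fun χ _ => ?_⟩
  · simp only [inv_one] at hk
    rw [← hone] at hk
    have h2 : (((∑ χ : IrrCharacter G, c χ * charDegree (χ : G → ℂ) : ℕ) : ℤ) : ℂ) =
        (((p : ℤ) ^ (Nat.card G).factorization p * k : ℤ) : ℂ) := by
      rw [Int.cast_natCast]
      push_cast
      exact_mod_cast hk
    have h3 := Int.cast_injective h2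
    exact_mod_cast Dvd.intro k h3.symm
  · by_cases hχ : χ ∈ B
    · exact dvd_mul_of_dvd_right (hg χ hχ) _
    · have : (c χ : ℂ) = 0 := by rw [← hc, ev_eq_zero_of_not_mem hM hB hje hχ]
      rw [Nat.cast_eq_zero.1 this, zero_mul]
      exact dvd_zero g

/-- **The sum of the squared degrees of a block.** -/
theorem sum_degree_sq_bound (hM : IsPModular p M) (hB : IsPBlock M B) {g : ℕ} (hg0 : g ≠ 0)
    (hg : ∀ χ ∈ B, g ∣ charDegree (χ : G → ℂ)) :
    ∃ w : ℕ, blockRank p B ≤ w ∧ 0 < w ∧
      ∑ᶠ χ ∈ B, charDegree (χ : G → ℂ) ^ 2 =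
        g * Nat.lcm (p ^ (Nat.card G).factorization p) g * w := by
  classical
  obtain ⟨T, hT⟩ := exists_isDecomp (S := (⊤ : Subalgebra (locSubring M) (RG M G))) smul_eq_zero'
    (Algebra.mem_top (x := (1 : RG M G))) (one_mul _)
  set TB := T.filter (fun j => j * eBlock hM hB = j) with hTB
  set UB := TB.image col with hUB
  set L := Nat.lcm (p ^ (Nat.card G).factorization p) g with hL
  have hdeg : ∀ u ∈ UB, ∃ P : ℕ, (∑ χ : IrrCharacter G, u χ * (χ : G → ℂ) 1) = P ∧ 0 < P ∧ L ∣ P := by
    intro u hu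
    obtain ⟨j, hj, rfl⟩ := Finset.mem_image.1 hu
    obtain ⟨hjT, hje⟩ := Finset.mem_filter.1 hj
    obtain ⟨P, hP0, hP, hPp, hPg⟩ := column_degree hM hB (hT.prim j hjT) hje
    exact ⟨P, hP, hP0, Nat.lcm_dvd hPp (hPg g hg)⟩
  choose P hP hP0 hPd using hdeg
  choose P' hP' using hPd
  have hm : ∀ u ∈ UB, ∃ m' : ℕ, 0 < m' ∧ (TB.filter fun j => col j = u).card = g * m' := by
    intro u hu
    obtain ⟨m', hm'⟩ := dvd_count hM hB hT hg u
    refine ⟨m', Nat.pos_of_ne_zero fun h0 => ?_, hm'⟩
    obtain ⟨j, hj, rfl⟩ := Finset.mem_image.1 hu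
    rw [h0, mul_zero, Finset.card_eq_zero] at hm'
    exact Finset.notMem_empty j (hm' ▸ Finset.mem_filter.2 ⟨hj, rfl⟩)
  choose m hm0 hm using hm
  refine ⟨∑ u : UB, m u.1 u.2 * P' u.1 u.2, ?_, ?_, ?_⟩
  · refine (blockRank_le_cols hM hB hT).trans ?_
    rw [← Fintype.card_coe, ← Finset.card_univ, Finset.card_eq_sum_ones]
    refine Finset.sum_le_sum fun u _ => Nat.one_le_iff_ne_zero.2 (mul_ne_zero (hm0 _ u.2).ne' ?_)
    intro h0
    have := hP0 _ u.2
    rw [hP' _ u.2, h0, mul_zero] at this
    exact lt_irrefl _ this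
  · obtain ⟨χ, hχ⟩ := IsPBlock.nonempty hB
    obtain ⟨j, hj, hj'⟩ : ∃ j ∈ TB, col j χ ≠ 0 := by
      by_contra hc
      push Not at hc
      refine IsIrrCharacter.apply_one_ne_zero χ.2 ?_
      rw [← ev_el (M := M) (χ : G → ℂ) (1 : G), el_one, ← hT.sum, ev_sum]
      refine Finset.sum_eq_zero fun j hj => ?_
      by_cases h : j * eBlock hM hB = j
      · exact hc j (Finset.mem_filter.2 ⟨hj, h⟩)
      · rw [← ev_mul_eBlock hM hB hχ, (eq_zero_or_of_block hM hB (hT.prim j hj)).resolve_right h,
          ev_zero]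
    refine Finset.sum_pos' (fun _ _ => Nat.zero_le _)
      ⟨⟨col j, Finset.mem_image_of_mem col hj⟩, Finset.mem_univ _, ?_⟩
    refine Nat.mul_pos (hm0 _ _) (Nat.pos_of_ne_zero fun h0 => ?_)
    have := hP0 _ (Finset.mem_image_of_mem col hj)
    rw [hP', h0, mul_zero] at this
    exact lt_irrefl _ this
  · apply Nat.cast_injective (R := ℂ)
    rw [finsum_mem_eq_sum_of_inter_support_eq _ (t := Finset.univ.filter (· ∈ B))
      (by ext; simp)]
    push_cast
    simp only [← BlockHeights.irr_apply_one]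
    have hexp : ∀ χ : IrrCharacter G, (if χ ∈ B then (χ : G → ℂ) 1 ^ 2 else 0) =
        ∑ j ∈ TB, col j χ * (χ : G → ℂ) 1 := fun χ => by
      rw [← Finset.sum_mul]
      split_ifs with hχ
      · rw [pow_two]
        congr 1
        conv_lhs => rw [← ev_el (M := M) (χ : G → ℂ) (1 : G), el_one, ← hT.sum, ev_sum]
        refine (Finset.sum_subset (Finset.filter_subset _ T) fun j hj hjB => ?_).symm
        have h : ¬ j * eBlock hM hB = j := fun h => hjB (Finset.mem_filter.2 ⟨hj, h⟩)
        rw [← ev_mul_eBlock hM hB hχ, (eq_zero_or_of_block hM hB (hT.prim j hj)).resolve_right h,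
          ev_zero]
      · rw [Finset.sum_eq_zero (f := fun j => col j χ) fun j hj => ev_eq_zero_of_not_mem hM hB (Finset.mem_filter.1 hj).2 hχ,
          zero_mul]
    rw [Finset.sum_filter, Finset.sum_congr rfl fun χ _ => hexp χ, Finset.sum_comm,
      ← Finset.sum_fiberwise_of_maps_to (fun j hj => Finset.mem_image_of_mem col hj)
        (fun j => ∑ χ : IrrCharacter G, col j χ * (χ : G → ℂ) 1), ← Finset.sum_coe_sort UB,
      Finset.mul_sum]
    refine Finset.sum_congr rfl fun u _ => ?_
    rw [Finset.sum_congr rfl fun j hj => by rw [(Finset.mem_filter.1 hj).2, hP _ u.2],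
      Finset.sum_const, hm _ u.2, hP' _ u.2, nsmul_eq_mul]
    push_cast
    ring

end Cfsg.Agent.Lib.BlockDegreeSum
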